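import Groth.Agent.H15Site.CechTot3.Sect
import Groth.Agent.H16Derived.Double.Total
import Mathlib.Algebra.Homology.TotalComplexSymmetry
import Mathlib.Algebra.Homology.Embedding.ExtendHomology

/-!
# Čech hypercohomology with respect to acyclic covers
-/

set_option autoImplicit false
set_option linter.style.haveILetI false
set_option linter.unusedSectionVars false
set_option backward.isDefEq.respectTransparency false
set_option backward.isDefEq.respectTransparency.types false

universe u

open CategoryTheory CategoryTheory.Limits Opposite TopologicalSpace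

namespace Groth.Agent.H15Site.CechTot3

attribute [local instance 10000] SiteInst.hasSheafifySite SiteInst.hasWeakSheafifySite SiteInst.hasExtSite SiteInst.enoughInjSite

open CechTop CechTot2 Groth.Agent.H16Derived

variable {X : TopCat.{u}} {ι₀ : Type u} (U : ι₀ → Opens X)

/-- The extended Čech complex functor. -/
noncomputable abbrev Ext' : ((Opens X)ᵒᵖ ⥤ AddCommGrpCat.{u}) ⥤ CochainComplex AddCommGrpCat.{u} ℤ :=
  cechComplexFunctor (A := AddCommGrpCat.{u}) U ⋙ ComplexShape.embeddingUpNat.extendFunctor AddCommGrpCat.{u}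

/-- A degree of the extended Čech complex functor. -/
noncomputable abbrev Fq (q : ℤ) : ((Opens X)ᵒᵖ ⥤ AddCommGrpCat.{u}) ⥤ AddCommGrpCat.{u} :=
  Ext' U ⋙ HomologicalComplex.eval _ _ q

/-- Nonnegative degrees of the extended Čech complex. -/
noncomputable def fqIso (p : ℕ) : Fq U (p : ℤ) ≅ Gp U p :=
  NatIso.ofComponents (fun P => HomologicalComplex.extendXIso _ ComplexShape.embeddingUpNat (i := p) rfl) fun {P Q} α => by
    show (HomologicalComplex.extendMap ((Cc U).map α) ComplexShape.embeddingUpNat).f (p : ℤ) ≫ _ = _ ≫ ((Cc U).map α).f p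
    rw [HomologicalComplex.extendMap_f _ ComplexShape.embeddingUpNat (show ComplexShape.embeddingUpNat.f p = (p : ℤ) from rfl), Category.assoc, Category.assoc, Iso.inv_hom_id,
      Category.comp_id]

theorem isZero_fq (q : ℤ) (hq : q < 0) (P : (Opens X)ᵒᵖ ⥤ AddCommGrpCat.{u}) : IsZero ((Fq U q).obj P) :=
  HomologicalComplex.isZero_extend_X _ _ _ fun i h => by
    have : (i : ℤ) = q := h
    omega

theorem shortExact_of_isZero {A : Type*} [Category A] [Abelian A] {S : ShortComplex A}
    (h₁ : IsZero S.X₁) (h₂ : IsZero S.X₂) (h₃ : IsZero S.X₃) : S.ShortExact where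
  exact := ShortComplex.exact_of_isZero_X₂ S h₂
  mono_f := ⟨fun g g' _ => h₁.eq_of_tgt g g'⟩
  epi_g := ⟨fun g g' _ => h₃.eq_of_src g g'⟩

theorem shortExact_fq {S : ShortComplex ((Opens X)ᵒᵖ ⥤ AddCommGrpCat.{u})}
    (h : ∀ (p : ℕ) (a : Fin (p + 1) → ι₀),
      (S.map ((evaluation _ AddCommGrpCat.{u}).obj (op (cap U a)))).ShortExact) (q : ℤ) :
    (S.map (Fq U q)).ShortExact := by
  rcases lt_or_ge q 0 with hq | hq
  · exact shortExact_of_isZero (isZero_fq U q hq _) (isZero_fq U q hq _) (isZero_fq U q hq _)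
  obtain ⟨p, rfl⟩ := Int.eq_ofNat_of_zero_le hq
  refine ShortComplex.shortExact_of_iso (S.mapNatIso (fqIso U p)).symm ?_
  refine { exact := ?_, mono_f := ?_, epi_g := ?_ }
  · rw [ShortComplex.ab_exact_iff]
    intro (x : C U S.X₂ p) (hx : (mapC U S.X₂ S.g p).hom x = 0)
    have hx' : ∀ a, (S.g.app (op (cap U a))).hom ((proj U S.X₂ a).hom x) = 0 := fun a => by
      rw [← proj_mapC, hx, map_zero]
    choose y hy using fun a => (ShortComplex.ab_exact_iff _).1 (h p a).exact _ (hx' a)
    obtain ⟨z, hz⟩ := exists_proj_eq U S.X₁ y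
    refine ⟨z, CechTop.hom_ext U _ fun a => ?_⟩
    show (proj U S.X₂ a).hom ((mapC U S.X₁ S.f p).hom z) = _
    rw [proj_mapC, hz]
    exact hy a
  · refine (AddCommGrpCat.mono_iff_injective _).2 fun (x : C U S.X₁ p) (y : C U S.X₁ p) (hxy : (mapC U S.X₁ S.f p).hom x = (mapC U S.X₁ S.f p).hom y) => ?_
    refine CechTop.hom_ext U _ fun a => ?_
    haveI := (h p a).mono_f
    refine (AddCommGrpCat.mono_iff_injective (S.map ((evaluation _ AddCommGrpCat.{u}).obj (op (cap U a)))).f).1 inferInstance ?_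
    show (S.f.app _).hom _ = (S.f.app _).hom _
    rw [← proj_mapC, hxy, proj_mapC]
  · refine (AddCommGrpCat.epi_iff_surjective _).2 fun (x : C U S.X₃ p) => ?_
    choose y hy using fun a => (AddCommGrpCat.epi_iff_surjective _).1 (h p a).epi_g ((proj U S.X₃ a).hom x)
    obtain ⟨z, hz⟩ := exists_proj_eq U S.X₂ y
    refine ⟨z, CechTop.hom_ext U _ fun a => ?_⟩
    show (proj U S.X₃ a).hom ((mapC U S.X₂ S.g p).hom z) = _
    rw [proj_mapC, hz]
    exact hy a

/-- The double complex functor. -/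
noncomputable abbrev Dc : CochainComplex (CohTop.Ab X) ℤ ⥤ Double.Dbl AddCommGrpCat.{u} :=
  CechTot.presheafCx X ⋙ (Ext' U).mapHomologicalComplex (ComplexShape.up ℤ)

theorem bdd_Dc (M : CochainComplex (CohTop.Ab X) ℤ) (a : ℤ) (ha : ∀ i, i < a → IsZero (M.X i)) :
    Double.Bdd ((Dc U).obj M) a 0 := by
  rintro p q (hp | hq)
  · exact (Fq U q).map_isZero ((sheafToPresheaf _ AddCommGrpCat.{u}).map_isZero (ha p hp))
  · exact isZero_fq U q hq _

theorem shortExact_Dc {S : ShortComplex (CochainComplex (CohTop.Ab X) ℤ)} (hS : S.ShortExact)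
    (h : ∀ (p : ℕ) (c : Fin (p + 1) → ι₀) (i : ℤ), AcOn (cap U c) (S.X₁.X i)) :
    (S.map (Dc U)).ShortExact :=
  HomologicalComplex.shortExact_of_degreewise_shortExact _ fun i =>
    HomologicalComplex.shortExact_of_degreewise_shortExact _ fun q =>
      shortExact_fq U (S := (S.map (HomologicalComplex.eval _ _ i)).map (sheafToPresheaf _ AddCommGrpCat.{u}))
        (fun p c => shortExact_sec (hS.map_of_exact (HomologicalComplex.eval _ _ i)) (h p c i)) q

theorem acyclic_Dc (M : CochainComplex (CohTop.Ab X) ℤ) (a : ℤ) (ha : ∀ i, i < a → IsZero (M.X i))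
    (hM : M.Acyclic) (h : ∀ (p : ℕ) (c : Fin (p + 1) → ι₀) (i : ℤ), AcOn (cap U c) (M.X i)) :
    HomologicalComplex.Acyclic (C := CochainComplex AddCommGrpCat.{u} ℤ) ((Dc U).obj M) := fun i => by
  rw [HomologicalComplex.exactAt_iff' _ (i - 1) i (i + 1) (by simp) (by simp)]
  refine HomologicalComplex.exact_of_degreewise_exact _ fun q => ?_
  let T : ShortComplex ((Opens X)ᵒᵖ ⥤ AddCommGrpCat.{u}) :=
    (M.sc' (i - 1) i (i + 1)).map (sheafToPresheaf _ AddCommGrpCat.{u})
  change (T.map (Fq U q)).Exact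
  rcases lt_or_ge q 0 with hq | hq
  · exact ShortComplex.exact_of_isZero_X₂ _ (isZero_fq U q hq _)
  obtain ⟨p, rfl⟩ := Int.eq_ofNat_of_zero_le hq
  refine (ShortComplex.exact_iff_of_iso (T.mapNatIso (fqIso U p))).2 ?_
  rw [ShortComplex.ab_exact_iff]
  intro (x : C U T.X₂ p) (hx : (mapC U T.X₂ T.g p).hom x = 0)
  have hx' : ∀ c, (T.g.app (op (cap U c))).hom ((proj U T.X₂ c).hom x) = 0 := fun c => by
    rw [← proj_mapC, hx, map_zero]
  choose y hy using fun c => exact_sec M a ha hM (h p c) i _ (hx' c)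
  obtain ⟨z, hz⟩ := exists_proj_eq U T.X₁ y
  refine ⟨z, CechTop.hom_ext U _ fun c => ?_⟩
  show (proj U T.X₂ c).hom ((mapC U T.X₁ T.f p).hom z) = _
  rw [proj_mapC, hz]
  exact hy c

theorem isIso_homologyMap_f {c : ComplexShape ℤ} {S : ShortComplex (HomologicalComplex AddCommGrpCat.{u} c)}
    (hS : S.ShortExact) (h₃ : S.X₃.Acyclic) (i : ℤ) (hi : ∃ j, c.Rel j i) :
    IsIso (HomologicalComplex.homologyMap S.f i) := by
  obtain ⟨j, hj⟩ := hi
  haveI : Mono (HomologicalComplex.homologyMap S.f i) :=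
    (hS.homology_exact₁ j i hj).mono_g ((((HomologicalComplex.exactAt_iff_isZero_homology _ _).1 (h₃ j))).eq_of_src _ _)
  haveI : Epi (HomologicalComplex.homologyMap S.f i) :=
    (hS.homology_exact₂ i).epi_f ((((HomologicalComplex.exactAt_iff_isZero_homology _ _).1 (h₃ i))).eq_of_tgt _ _)
  exact isIso_of_mono_of_epi _

theorem nonempty_hyperH_iso (K : CochainComplex (CohTop.Ab X) ℤ) (a : ℤ) (ha : ∀ i, i < a → IsZero (K.X i))
    (I : CochainComplex (CohTop.Ab X) ℤ) (f : K ⟶ I) [Mono f] [QuasiIso f] [∀ j, Injective (I.X j)]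
    (hI : ∀ i, i < a → IsZero (I.X i))
    (h : ∀ (p : ℕ) (c : Fin (p + 1) → ι₀) (i : ℤ), AcOn (cap U c) (K.X i)) (n : ℤ) :
    Nonempty (CechTot.hyperH U ((CechTot.presheafCx X).obj K) n ≅
      CechTot.hyperH U ((CechTot.presheafCx X).obj I) n) := by
  let S : ShortComplex (CochainComplex (CohTop.Ab X) ℤ) := ShortComplex.mk f (cokernel.π f) (cokernel.condition f)
  have hS : S.ShortExact := { exact := ShortComplex.exact_cokernel f }
  have hQ : ∀ i, i < a → IsZero (S.X₃.X i) := fun i hi =>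
    haveI := (hS.map_of_exact (HomologicalComplex.eval (CohTop.Ab X) (ComplexShape.up ℤ) i)).epi_g
    IsZero.of_epi ((HomologicalComplex.eval (CohTop.Ab X) (ComplexShape.up ℤ) i).map S.g) (hI i hi)
  have hQ' : ∀ (p : ℕ) (c : Fin (p + 1) → ι₀) (i : ℤ), AcOn (cap U c) (S.X₃.X i) := fun p c i =>
    acOn_X₃ (hS.map_of_exact (HomologicalComplex.eval _ _ i)) (h p c i)
      (acOn_of_injective (cap U c) (I.X i))
  obtain ⟨w, hT⟩ := Double.shortExact_total (shortExact_Dc U hS h) (bdd_Dc U K a ha) (bdd_Dc U I a hI)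
    (bdd_Dc U S.X₃ a hQ)
  have h3 : HomologicalComplex.Acyclic (((Dc U).obj S.X₃).total (ComplexShape.up ℤ)) :=
    Double.acyclic_total (bdd_Dc U S.X₃ a hQ)
      (acyclic_Dc U S.X₃ a hQ (hS.acyclic_X₃ inferInstance) hQ')
  exact ⟨@asIso _ _ _ _ _ (isIso_homologyMap_f hT h3 n ⟨n - 1, by simp⟩)⟩

/-! ## Global sections -/

/-- Global sections placed in Čech degree zero. -/
noncomputable abbrev G₀ : ((Opens X)ᵒᵖ ⥤ AddCommGrpCat.{u}) ⥤ CochainComplex AddCommGrpCat.{u} ℤ :=
  (evaluation _ AddCommGrpCat.{u}).obj (op (⊤ : Opens X)) ⋙ CochainComplex.single₀ AddCommGrpCat.{u} ⋙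
    ComplexShape.embeddingUpNat.extendFunctor AddCommGrpCat.{u}

/-- The augmentation at a presheaf. -/
noncomputable def augAt (P : (Opens X)ᵒᵖ ⥤ AddCommGrpCat.{u}) :
    (CochainComplex.single₀ AddCommGrpCat.{u}).obj (P.obj (op (⊤ : Opens X))) ⟶ (Cc U).obj P :=
  (CochainComplex.fromSingle₀Equiv ((Cc U).obj P) (P.obj (op ⊤))).symm
    ⟨(η U).app P, by ext g; exact d_aug (U := U) (P := P) (fun _ => le_top) g⟩

theorem augAt_f_zero (P : (Opens X)ᵒᵖ ⥤ AddCommGrpCat.{u}) : (augAt U P).f 0 = (η U).app P :=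
  CochainComplex.fromSingle₀Equiv_symm_apply_f_zero _ _

/-- The augmentation as a map of complexes. -/
noncomputable def augCx : (evaluation _ AddCommGrpCat.{u}).obj (op (⊤ : Opens X)) ⋙ CochainComplex.single₀ AddCommGrpCat.{u} ⟶
    cechComplexFunctor (A := AddCommGrpCat.{u}) U where
  app P := augAt U P
  naturality P Q α := by
    refine HomologicalComplex.from_single_hom_ext ?_
    show ((CochainComplex.single₀ AddCommGrpCat.{u}).map (α.app (op ⊤))).f 0 ≫ (augAt U Q).f 0 =
      (augAt U P).f 0 ≫ ((Cc U).map α).f 0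
    rw [augAt_f_zero, augAt_f_zero, CochainComplex.single₀_map_f_zero]
    exact (η U).naturality α

variable (hcov : iSup U = ⊤)

include hcov in
theorem quasiIso_augCx (F : CohTop.Ab X) [Injective F] : QuasiIso ((augCx U).app F.obj) := by
  refine ⟨fun p => ?_⟩
  cases p with
  | zero =>
    rw [CochainComplex.quasiIsoAt₀_iff, ShortComplex.quasiIso_iff_of_zeros]
    rotate_left
    · rfl
    · rfl
    · exact ((Cc U).obj F.obj).shape 0 0 (by simp)
    have he : ((augCx U).app F.obj).f 0 = (η U).app F.obj := augAt_f_zero U F.obj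
    constructor
    · refine (ShortComplex.exact_iff_of_iso (ShortComplex.isoMk (Iso.refl _) (Iso.refl _) (Iso.refl _) ?_ ?_)).1
        ((ShortComplex.ab_exact_iff (ShortComplex.mk ((η U).app F.obj) (((Cc U).obj F.obj).d 0 1)
          (by ext g; exact d_aug (U := U) (P := F.obj) (fun _ => le_top) g))).2
          fun x hx => CechLeray.exists_aug_eq (U := U) ⊤ (fun _ => le_top) hcov.ge F hx)
      · exact (Category.id_comp _).trans (he.trans (Category.comp_id _).symm)
      · exact (Category.id_comp _).trans (Category.comp_id _).symm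
    · show Mono (((augCx U).app F.obj).f 0)
      rw [he, AddCommGrpCat.mono_iff_injective]
      intro g g' hg
      refine TopCat.Sheaf.eq_of_locally_eq' (F := (F : TopCat.Sheaf AddCommGrpCat.{u} X)) U ⊤
        (fun k => homOfLE le_top) hcov.ge g g' fun k => ?_
      change (aug (U := U) (P := F.obj) (fun _ => le_top)).hom g = (aug (fun _ => le_top)).hom g' at hg
      have h1 := congrArg (fun z => res F.obj (show U k ≤ cap U (fun _ : Fin 1 => k) from
          le_iInf fun _ => le_rfl) ((proj U F.obj (fun _ : Fin 1 => k)).hom z)) hg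
      erw [proj_aug, proj_aug, res_res, res_res] at h1
      exact h1
  | succ p =>
    have h : ((Cc U).obj F.obj).ExactAt (p + 1) := (HomologicalComplex.exactAt_iff_isZero_homology _ _).2
      (CechLeray.isZero_cechH_of_flasque U (H10Coh.flasque_of_injective F) p)
    rw [quasiIsoAt_iff_exactAt' _ _ h]
    exact HomologicalComplex.exactAt_single_obj _ _ _ _ (by simp)

variable (I : CochainComplex (CohTop.Ab X) ℤ)

/-- The column of global sections. -/
noncomputable abbrev L : Double.Dbl AddCommGrpCat.{u} :=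
  ((G₀ (X := X)).mapHomologicalComplex (ComplexShape.up ℤ)).obj (PI I)

/-- The augmentation of double complexes. -/
noncomputable abbrev φ : L I ⟶ (Dc U).obj I :=
  (NatTrans.mapHomologicalComplex (Functor.whiskerRight (augCx U)
    (ComplexShape.embeddingUpNat.extendFunctor AddCommGrpCat.{u})) (ComplexShape.up ℤ)).app (PI I)

theorem bdd_L (a : ℤ) (ha : ∀ i, i < a → IsZero (I.X i)) : Double.Bdd (L I) a 0 := by
  rintro p q (hp | hq)
  · exact (G₀ ⋙ HomologicalComplex.eval _ _ q).map_isZero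
      ((sheafToPresheaf _ AddCommGrpCat.{u}).map_isZero (ha p hp))
  · exact HomologicalComplex.isZero_extend_X _ _ _ fun i h => by
      have : (i : ℤ) = q := h
      omega

theorem isZero_L (j q : ℤ) (hq : q ≠ 0) : IsZero (((L I).X j).X q) := by
  by_cases h : 0 ≤ q
  · obtain ⟨p, rfl⟩ := Int.eq_ofNat_of_zero_le h
    exact IsZero.of_iso (HomologicalComplex.isZero_single_obj_X _ _ _ _ (by omega))
      (HomologicalComplex.extendXIso _ ComplexShape.embeddingUpNat (i := p) rfl)
  · exact HomologicalComplex.isZero_extend_X _ _ _ fun i h' => by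
      have : (i : ℤ) = q := h'
      omega

/-- The column in degree zero. -/
noncomputable def L0iso : G₀ (X := X) ⋙ HomologicalComplex.eval _ _ (0 : ℤ) ≅
    (evaluation _ AddCommGrpCat.{u}).obj (op (⊤ : Opens X)) :=
  NatIso.ofComponents (fun P => HomologicalComplex.extendXIso _ ComplexShape.embeddingUpNat (i := 0) rfl ≪≫
    HomologicalComplex.singleObjXSelf (ComplexShape.up ℕ) 0 _) fun {P Q} α => by
    show (HomologicalComplex.extendMap _ ComplexShape.embeddingUpNat).f (0 : ℤ) ≫ _ = _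
    rw [HomologicalComplex.extendMap_f _ ComplexShape.embeddingUpNat (show ComplexShape.embeddingUpNat.f 0 = (0 : ℤ) from rfl)]
    simp

theorem nonempty_total_L (a : ℤ) (ha : ∀ i, i < a → IsZero (I.X i)) :
    Nonempty ((L I).total (ComplexShape.up ℤ) ≅ ΓI I) := by
  have hL := bdd_L I a ha
  have e1 : ∀ n, Double.π (L I) n 0 n (by omega) ≫ Double.ι (L I) n 0 n (by omega) = 𝟙 _ := fun n =>
    HomologicalComplex₂.total.hom_ext (ComplexShape.up ℤ) fun p q h => by
      have hpq : p + q = n := h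
      rw [Category.comp_id]
      by_cases hq : q = 0
      · subst hq
        obtain rfl : p = n := by omega
        erw [reassoc_of% (Double.ι_π_self (L I) p 0 p (by omega))]
      · exact (isZero_L I p q hq).eq_of_src _ _
  let e : ∀ n, ((L I).X n).X 0 ≅ ((L I).total (ComplexShape.up ℤ)).X n := fun n =>
    ⟨Double.ι (L I) n 0 n (by omega), Double.π (L I) n 0 n (by omega), Double.ι_π_self (L I) n 0 n _, e1 n⟩
  refine ⟨(HomologicalComplex.Hom.isoOfComponents (fun n => (L0iso.app ((PI I).X n)).symm ≪≫ e n) ?_).symm⟩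
  intro n m (hnm : n + 1 = m)
  show (L0iso.inv.app _ ≫ Double.ι (L I) n 0 n _) ≫ _ = _ ≫ (L0iso.inv.app _ ≫ Double.ι (L I) m 0 m _)
  rw [Category.assoc, Double.ι_d n 0 n m 1 m (by omega) hnm hnm (by omega)]
  have hd : ((L I).X n).d 0 1 = 0 := (isZero_L I n 1 (by omega)).eq_of_tgt _ _
  rw [hd, zero_comp, smul_zero, add_zero, ← Category.assoc, ← Category.assoc]
  congr 1
  exact (L0iso.inv.naturality ((PI I).d n m)).symm

include hcov in
theorem nonempty_hyperH_global [∀ j, Injective (I.X j)] (a : ℤ) (ha : ∀ i, i < a → IsZero (I.X i)) (n : ℤ) :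
    Nonempty (CechTot.hyperH U ((CechTot.presheafCx X).obj I) n ≅ (ΓI I).homology n) := by
  haveI : ∀ j, QuasiIso ((φ U I).f j) := fun j => by
    haveI := quasiIso_augCx U hcov (I.X j)
    exact (HomologicalComplex.quasiIso_extendMap_iff _ ComplexShape.embeddingUpNat).2 this
  haveI : ∀ j, Mono ((φ U I).f j) := fun j => by
    haveI : ∀ q, Mono (((φ U I).f j).f q) := fun q => by
      by_cases hq : q = 0
      · subst hq
        haveI : Mono (((augCx U).app (I.X j).obj).f 0) := by
          have h0 := (quasiIso_augCx U hcov (I.X j)).quasiIsoAt 0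
          rw [CochainComplex.quasiIsoAt₀_iff, ShortComplex.quasiIso_iff_of_zeros] at h0
          · exact h0.2
          · rfl
          · rfl
          · exact ((Cc U).obj (I.X j).obj).shape 0 0 (by simp)
        show Mono ((HomologicalComplex.extendMap ((augCx U).app (I.X j).obj) ComplexShape.embeddingUpNat).f (0 : ℤ))
        rw [HomologicalComplex.extendMap_f _ ComplexShape.embeddingUpNat (show ComplexShape.embeddingUpNat.f 0 = (0 : ℤ) from rfl)]
        infer_instance
      · exact ⟨fun g g' _ => (isZero_L I j q hq).eq_of_tgt g g'⟩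
    exact HomologicalComplex.mono_of_mono_f _ inferInstance
  haveI : Mono (φ U I) := HomologicalComplex.mono_of_mono_f _ inferInstance
  let S : ShortComplex (Double.Dbl AddCommGrpCat.{u}) :=
    ShortComplex.mk (φ U I) (cokernel.π (φ U I)) (cokernel.condition _)
  have hS : S.ShortExact := { exact := ShortComplex.exact_cokernel _ }
  have h₁ : Double.Bdd S.X₁ a 0 := bdd_L I a ha
  have h₂ : Double.Bdd S.X₂ a 0 := bdd_Dc U I a ha
  have hj : ∀ j, (S.map (HomologicalComplex.eval _ _ j)).ShortExact := fun j => hS.map_of_exact _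
  have h₃ : Double.Bdd S.X₃ a 0 := fun p q hpq =>
    haveI := ((hj p).map_of_exact (HomologicalComplex.eval AddCommGrpCat.{u} (ComplexShape.up ℤ) q)).epi_g
    IsZero.of_epi (((S.map (HomologicalComplex.eval _ _ p)).map (HomologicalComplex.eval _ _ q)).g) (h₂ p q hpq)
  haveI := Double.hasTotal h₃
  obtain ⟨w, hT⟩ := Double.shortExact_total hS h₁ h₂ h₃
  have h₃' : Double.Bdd S.X₃.flip 0 a := fun p q hpq => h₃ q p hpq.symm
  have hacy : HomologicalComplex.Acyclic (S.X₃.total (ComplexShape.up ℤ)) := by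
    refine fun i => (HomologicalComplex.ExactAt.of_iso ?_ (S.X₃.totalFlipIso (ComplexShape.up ℤ)))
    refine Double.acyclic_total h₃' (fun q => ?_) i
    rw [HomologicalComplex.exactAt_iff' _ (q - 1) q (q + 1) (by simp) (by simp)]
    refine HomologicalComplex.exact_of_degreewise_exact _ fun j => ?_
    have hh := (hj j).acyclic_X₃ (inferInstanceAs (QuasiIso ((φ U I).f j))) q
    rw [HomologicalComplex.exactAt_iff' _ (q - 1) q (q + 1) (by simp) (by simp)] at hh
    exact hh
  haveI := isIso_homologyMap_f hT hacy n ⟨n - 1, by simp⟩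
  exact ⟨(asIso (HomologicalComplex.homologyMap (HomologicalComplex₂.total.map (φ U I) (ComplexShape.up ℤ)) n)).symm ≪≫
    (HomologicalComplex.homologyFunctor _ _ n).mapIso (nonempty_total_L I a ha).some⟩

include hcov in
theorem nonempty_hyperH_equiv_HDU [HasDerivedCategory.{u} (CohTop.Ab X)]
    (K : CochainComplex (CohTop.Ab X) ℤ) (a : ℤ) (ha : ∀ i : ℤ, i < a → IsZero (K.X i))
    (h : ∀ (p : ℕ) (c : Fin (p + 1) → ι₀) (i : ℤ), AcOn (cap U c) (K.X i)) (n : ℤ) :
    Nonempty (↑(CechTot.hyperH U ((CechTot.presheafCx X).obj K) n) ≃+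
      CohCx.HDU (DerivedCategory.Q.obj K) n (⊤ : Opens X)) := by
  haveI : EnoughInjectives (CohTop.Ab X) := H10Coh.enoughInjAb X
  haveI : K.IsStrictlyGE a := (CochainComplex.isStrictlyGE_iff K a).2 ha
  obtain ⟨I, i, _, hi, hI, hge⟩ :=
    CochainComplex.Plus.modelCategoryQuillen.exists_mono_quasiIso_injective K (a - 1) a (by omega)
  have hIa : ∀ j, j < a - 1 → IsZero (I.X j) := fun j hj => (CochainComplex.isStrictlyGE_iff I (a - 1)).1 hge j hj
  haveI := hI
  haveI : I.IsKInjective := CochainComplex.isKInjective_of_injective I (a - 1)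
  haveI : IsIso (DerivedCategory.Q.map i) := (DerivedCategory.isIso_Q_map_iff_quasiIso _ i).2 hi
  obtain ⟨e1⟩ := nonempty_hyperH_iso U K (a - 1) (fun j hj => ha j (by omega)) I i hIa h n
  obtain ⟨e2⟩ := nonempty_hyperH_global U hcov I (a - 1) hIa n
  let e3 : (ΓI I).homology n ≅ ((PI I).homology n).obj (op ⊤) :=
    ((PI I).sc n).mapHomologyIso ((evaluation _ AddCommGrpCat.{u}).obj (op (⊤ : Opens X)))
  let e4 : CohCx.HDUPresheaf (DerivedCategory.Q.obj I) n ≅ CohCx.HDUPresheaf (DerivedCategory.Q.obj K) n :=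
    Functor.isoWhiskerLeft _ (preadditiveYoneda.mapIso
      ((CategoryTheory.shiftFunctor _ n).mapIso (asIso (DerivedCategory.Q.map i)).symm))
  exact ⟨(e1 ≪≫ e2 ≪≫ e3 ≪≫ ((nonempty_iso I n).some ≪≫ e4).app (op ⊤)).addCommGroupIsoToAddEquiv⟩

end Groth.Agent.H15Site.CechTot3
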