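import Groth.Agent.H15Site.CechTot2.Main
import Groth.Agent.H15Site.EdgeAcyclic
import Mathlib.Algebra.Homology.HomologySequenceLemmas

/-!
# Sections of acyclic complexes with acyclic terms
-/

set_option autoImplicit false
set_option linter.style.haveILetI false
set_option linter.unusedSectionVars false
set_option backward.isDefEq.respectTransparency false
set_option backward.isDefEq.respectTransparency.types false

universe u

open CategoryTheory CategoryTheory.Limits Opposite TopologicalSpace

namespace Groth.Agent.H15Site.CechTot3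

attribute [local instance 10000] SiteInst.hasSheafifySite SiteInst.hasWeakSheafifySite SiteInst.hasExtSite SiteInst.enoughInjSite

variable {X : TopCat.{u}}

/-- Sections over an open. -/
noncomputable abbrev Sec (V : Opens X) : CohTop.Ab X ⥤ AddCommGrpCat.{u} :=
  sheafToPresheaf (Opens.grothendieckTopology X) AddCommGrpCat.{u} ⋙ (evaluation _ AddCommGrpCat.{u}).obj (op V)

/-- No higher cohomology over `V`. -/
def AcOn (V : Opens X) (F : CohTop.Ab X) : Prop := ∀ q : ℕ, Subsingleton (CohTop.HU F (q + 1) V)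

theorem acOn_of_injective (V : Opens X) (F : CohTop.Ab X) [Injective F] : AcOn V F :=
  fun q => Edge.subsingleton_HU_of_injective F q V

theorem acOn_of_isZero (V : Opens X) {F : CohTop.Ab X} (h : IsZero F) : AcOn V F :=
  haveI : Injective F := h.injective
  acOn_of_injective V F

variable {V : Opens X} {S : ShortComplex (CohTop.Ab X)}

theorem acOn_X₃ (hS : S.ShortExact) (h₁ : AcOn V S.X₁) (h₂ : AcOn V S.X₂) : AcOn V S.X₃ := fun q => by
  refine subsingleton_of_forall_eq (0 : CohSite.HU S.X₃ (q + 1) V) fun z => ?_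
  haveI : Subsingleton (CohSite.HU S.X₁ (q + 1 + 1) V) := h₁ (q + 1)
  haveI : Subsingleton (CohSite.HU S.X₂ (q + 1) V) := h₂ q
  obtain ⟨w, rfl⟩ := Edge.exists_HUmap_g hS V (q + 1) z (Subsingleton.elim _ _)
  rw [Subsingleton.elim w 0, map_zero]

theorem shortExact_sec (hS : S.ShortExact) (h₁ : AcOn V S.X₁) : (S.map (Sec V)).ShortExact where
  exact := (ShortComplex.ab_exact_iff _).2 fun x hx => CechLeray.exists_lift_app hS V x hx
  mono_f := by
    haveI := hS.mono_f
    exact (AddCommGrpCat.mono_iff_injective _).2 (H10Coh.injective_app_of_mono S.f V)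
  epi_g := by
    haveI : Subsingleton (CohSite.HU S.X₁ 1 V) := h₁ 0
    exact (AddCommGrpCat.epi_iff_surjective _).2 (Edge.surjective_app_of_subsingleton hS V)

/-- The sequence of cycles at degree `j`. -/
noncomputable abbrev cycSeq (M : CochainComplex (CohTop.Ab X) ℤ) (j : ℤ) : ShortComplex (CohTop.Ab X) :=
  ShortComplex.mk (M.iCycles j) (M.toCycles j (j + 1)) (by
    rw [← cancel_mono (M.iCycles (j + 1)), Category.assoc, HomologicalComplex.toCycles_i, zero_comp,
      HomologicalComplex.iCycles_d])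

theorem cycSeq_shortExact (M : CochainComplex (CohTop.Ab X) ℤ) (j : ℤ) (h : M.ExactAt (j + 1)) :
    (cycSeq M j).ShortExact where
  exact := by
    refine ShortComplex.exact_of_f_is_kernel _ (KernelFork.IsLimit.ofι _ _
      (fun {W} g hg => M.liftCycles g (j + 1) (by simp) (by
        rw [← M.toCycles_i j (j + 1)]
        exact (Category.assoc _ _ _).symm.trans ((hg =≫ _).trans zero_comp)))
      (fun {W} g hg => M.liftCycles_i _ _ _ _)
      (fun {W} g hg m hm => by
        rw [← cancel_mono (M.iCycles j), HomologicalComplex.liftCycles_i]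
        exact hm))
  mono_f := inferInstanceAs (Mono (M.iCycles j))
  epi_g := by
    show Epi (M.toCycles j (j + 1))
    rw [HomologicalComplex.exactAt_iff_isZero_homology] at h
    exact Preadditive.epi_of_isZero_cokernel' _ (M.homologyIsCokernel j (j + 1) (by simp)) h

theorem acOn_cycles (M : CochainComplex (CohTop.Ab X) ℤ) (a : ℤ) (ha : ∀ i, i < a → IsZero (M.X i))
    (hM : M.Acyclic) (h : ∀ j, AcOn V (M.X j)) : ∀ j, AcOn V (M.cycles j) := by
  have h0 : ∀ j, j < a → AcOn V (M.cycles j) := fun j hj =>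
    acOn_of_isZero V (IsZero.of_mono (M.iCycles j) (ha j hj))
  have key : ∀ (k : ℕ) (j : ℤ), j = a - 1 + k → AcOn V (M.cycles j) := by
    intro k
    induction k with
    | zero => exact fun j hj => h0 j (by omega)
    | succ k ih =>
      intro j hj
      obtain ⟨i, rfl⟩ : ∃ i, j = i + 1 := ⟨j - 1, by omega⟩
      exact acOn_X₃ (cycSeq_shortExact M i (hM _)) (ih _ (by push_cast at hj; omega)) (h _)
  intro j
  by_cases hj : j < a
  · exact h0 j hj
  · exact key (j - (a - 1)).toNat j (by omega)

theorem exact_sec (M : CochainComplex (CohTop.Ab X) ℤ) (a : ℤ) (ha : ∀ i, i < a → IsZero (M.X i))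
    (hM : M.Acyclic) (h : ∀ j, AcOn V (M.X j)) (j : ℤ) (x : (M.X j).obj.obj (op V))
    (hx : ((M.d j (j + 1)).hom.app (op V)).hom x = 0) :
    ∃ y : (M.X (j - 1)).obj.obj (op V), ((M.d (j - 1) j).hom.app (op V)).hom y = x := by
  obtain ⟨k, rfl⟩ : ∃ k, j = k + 1 := ⟨j - 1, by omega⟩
  rw [show k + 1 - 1 = k by omega]
  have hx' : ((M.toCycles (k + 1) (k + 1 + 1)).hom.app (op V)).hom x = 0 := by
    apply H10Coh.injective_app_of_mono (M.iCycles (k + 1 + 1)) V
    rw [map_zero]
    rw [← hx, ← M.toCycles_i (k + 1) (k + 1 + 1)]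
    rfl
  obtain ⟨z, hz⟩ := CechLeray.exists_lift_app (cycSeq_shortExact M (k + 1) (hM _)) V x hx'
  haveI : Subsingleton (CohSite.HU (cycSeq M k).X₁ 1 V) := acOn_cycles M a ha hM h k 0
  obtain ⟨y, hy⟩ := Edge.surjective_app_of_subsingleton (cycSeq_shortExact M k (hM _)) V z
  refine ⟨y, ?_⟩
  rw [← hz, ← hy, ← M.toCycles_i k (k + 1)]
  rfl

end Groth.Agent.H15Site.CechTot3
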